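import Groth.Prelude.Def_SGA7IX
import Groth.Agent.Lib.EtaleTors.Basic
import Groth.Agent.Lib.LadicMonodromy.Inertia
import Groth.Agent.S7785
import Groth.Agent.S9494
import Groth.Agent.H2.Rigid.Smooth

/-!
Inertia and extension of points of smooth separated group schemes over henselian DVRs.
-/

set_option autoImplicit false

universe u

open CategoryTheory CategoryTheory.Limits AlgebraicGeometry MonObj
open CategoryTheory.MonoidalCategory CategoryTheory.CartesianMonoidalCategory
open Groth.Agent.Lib.LadicMonodromy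

namespace Groth.Agent.Lib.NeronInertia

attribute [local instance] Hom.group

theorem ext_of_valuation {B T : Scheme.{u}} (f : B ⟶ T) [IsSeparated f] {Ω : Type u} [Field Ω]
    (W : ValuationSubring Ω) (u v : Spec (CommRingCat.of W) ⟶ B) (h : u ≫ f = v ≫ f)
    (hg : Spec.map (CommRingCat.ofHom (algebraMap W Ω)) ≫ u =
      Spec.map (CommRingCat.ofHom (algebraMap W Ω)) ≫ v) : u = v := by
  have h0 : @IsSeparated B T f := inferInstance
  rw [IsSeparated.eq_valuativeCriterion] at h0
  let sq : ValuativeCommSq f :=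
    { R := W, K := Ω, i₁ := Spec.map (CommRingCat.ofHom (algebraMap W Ω)) ≫ u, i₂ := u ≫ f,
      commSq := ⟨by rw [Category.assoc]⟩ }
  haveI := h0.1 sq
  exact congrArg (fun l : sq.commSq.LiftStruct => l.l)
    (Subsingleton.elim (⟨u, rfl, rfl⟩ : sq.commSq.LiftStruct) ⟨v, hg.symm, h.symm⟩)

variable {R K Ω : Type u} [CommRing R] [IsDomain R] [IsDiscreteValuationRing R]
    [Field K] [Algebra R K] [IsFractionRing R K] [Field Ω] [Algebra K Ω]

/-- the structure map of `R` into `W` -/
noncomputable abbrev gW (W : ValuationSubring Ω) (hW : SGA7.LiesOver K R W) : R →+* W :=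
  ((algebraMap K Ω).comp (algebraMap R K)).codRestrict W.toSubring hW.1

/-- a point on `W` extending a generic point is over `R` -/
theorem over_base (W : ValuationSubring Ω) (hW : SGA7.LiesOver K R W)
    {N : Over (Spec (CommRingCat.of R))}
    (x : SGA7.Pts Ω ((SGA7.genFib R K).obj N)) (u : Spec (CommRingCat.of W) ⟶ N.left)
    (hu : Spec.map (CommRingCat.ofHom (algebraMap W Ω)) ≫ u =
      x.left ≫ pullback.fst N.hom (Spec.map (CommRingCat.ofHom (algebraMap R K)))) :
    u ≫ N.hom = Spec.map (CommRingCat.ofHom (gW W hW)) := by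
  obtain ⟨φ, hφ⟩ : ∃ φ, Spec.map φ = u ≫ N.hom := ⟨_, Spec.map_preimage _⟩
  rw [← hφ]
  congr 1
  have h1 : Spec.map (φ ≫ CommRingCat.ofHom (algebraMap W Ω)) =
      Spec.map (CommRingCat.ofHom ((algebraMap K Ω).comp (algebraMap R K))) := by
    rw [Spec.map_comp, hφ, ← Category.assoc, hu, Category.assoc, pullback.condition, ← Category.assoc]
    erw [Over.w x]
    show Spec.map _ ≫ Spec.map _ = _
    rw [← Spec.map_comp]
    rfl
  have h2 := Spec.map_injective h1
  ext r
  exact congrArg (fun q : CommRingCat.of R ⟶ CommRingCat.of Ω => q r) h2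

/-- If a torsion point extends to the valuation ring, inertia fixes it. -/
theorem fixed_of_extends (W : ValuationSubring Ω) (hW : SGA7.LiesOver K R W) (N : ℕ)
    (hN : (N : IsLocalRing.ResidueField R) ≠ 0)
    (B : Over (Spec (CommRingCat.of R))) [GrpObj B] [IsCommMonObj B] [IsSeparated B.hom] [Smooth B.hom]
    (σ : Ω ≃ₐ[K] Ω) (hσ : SGA7.IsInertia W σ)
    (x : SGA7.Pts Ω ((SGA7.genFib R K).obj B)) (hx : x ^ N = 1)
    (ul : Spec (CommRingCat.of W) ⟶ B.left)
    (hul0 : Spec.map (CommRingCat.ofHom (algebraMap W Ω)) ≫ ul =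
      x.left ≫ pullback.fst B.hom (Spec.map (CommRingCat.ofHom (algebraMap R K)))) :
    SGA7.galAct σ x = x := by
  let j := Spec.map (CommRingCat.ofHom (algebraMap R K))
  let g : R →+* W := gW W hW
  let WR : Over (Spec (CommRingCat.of R)) := Over.mk (Spec.map (CommRingCat.ofHom g))
  let jW := Spec.map (CommRingCat.ofHom (algebraMap W Ω))
  have hjW : jW ≫ WR.hom = (SGA7.pt (K := K) Ω).hom ≫ j := by
    show Spec.map _ ≫ Spec.map _ = Spec.map _ ≫ Spec.map _
    rw [← Spec.map_comp, ← Spec.map_comp, ← CommRingCat.ofHom_comp, ← CommRingCat.ofHom_comp]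
    rfl
  let u : WR ⟶ B := Over.homMk ul (over_base W hW x ul hul0)
  have hul : jW ≫ u.left = x.left ≫ pullback.fst B.hom j := hul0
  let F := Over.pullback j
  let s : SGA7.pt (K := K) Ω ⟶ F.obj WR :=
    Over.homMk (pullback.lift jW (SGA7.pt (K := K) Ω).hom hjW) (pullback.lift_snd _ _ _)
  have hxs : x = s ≫ F.map u := by
    ext
    apply pullback.hom_ext
    · simp only [Over.comp_left, F, s]
      erw [Category.assoc, pullback.lift_fst, ← Category.assoc, pullback.lift_fst, hul]
    · simp only [Over.comp_left, F, s]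
      erw [Category.assoc, pullback.lift_snd]
      erw [pullback.lift_snd]
      exact Over.w x
  have huN : u ^ N = 1 := by
    ext
    refine ext_of_valuation B.hom W _ _ ((Over.w _).trans (Over.w _).symm) ?_
    have key : ∀ f : WR ⟶ B, (s ≫ F.map f).left ≫ pullback.fst B.hom j = jW ≫ f.left := by
      intro f
      simp only [Over.comp_left, F, s]
      erw [Category.assoc, pullback.lift_fst, ← Category.assoc, pullback.lift_fst]
    rw [← key, ← key]
    have h1 : F.map (u ^ N) = F.map u ^ N := map_pow (Functor.homMonoidHom F) u N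
    have h2 : F.map (1 : WR ⟶ B) = 1 := map_one (Functor.homMonoidHom F)
    rw [h1, h2, MonObj.comp_pow, MonObj.comp_one, ← hxs, hx]
  -- the conjugate point
  let σW : W →+* W := (σ.toRingEquiv.toRingHom.comp W.subtype).codRestrict W.toSubring
    fun a => (hσ a a.2).1
  have hσg : σW.comp g = g := by
    ext r; exact σ.commutes (algebraMap R K r)
  let S : WR ⟶ WR := Over.homMk (Spec.map (CommRingCat.ofHom σW)) (by
    show Spec.map _ ≫ Spec.map _ = Spec.map _
    rw [← Spec.map_comp, ← CommRingCat.ofHom_comp, hσg])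
  have hvN : (S ≫ u) ^ N = 1 := by rw [← MonObj.comp_pow, huN, MonObj.comp_one]
  have hNu : IsUnit (N : R) := by
    by_contra h
    apply hN
    rw [← map_natCast (IsLocalRing.residue R), IsLocalRing.residue_eq_zero_iff]
    exact h
  have hNL : ∀ (L : Type u) [Field L], (Spec (CommRingCat.of L) ⟶ Spec (CommRingCat.of R)) → (N : L) ≠ 0 := by
    intro L _ b
    have := (hNu.map (Spec.preimage b).hom).ne_zero
    rwa [map_natCast] at this
  let p : B ⟶ B := (𝟙 B) ^ N
  haveI : Etale p.left := Groth.Agent.Lib.EtaleTors.Basic.etale_pow hNL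
  have hcond : ∀ q : WR ⟶ B, q ^ N = 1 → q.left ≫ p.left = (1 : WR ⟶ B).left ≫ 𝟙 B.left := by
    intro q hq
    rw [Category.comp_id, ← Over.comp_left, MonObj.comp_pow, Category.comp_id, hq]
  let H := pullback p.left ((1 : WR ⟶ B).left ≫ 𝟙 B.left)
  let a : Spec (CommRingCat.of W) ⟶ H := pullback.lift u.left (𝟙 _) (by rw [hcond u huN]; erw [Category.id_comp])
  let b : Spec (CommRingCat.of W) ⟶ H := pullback.lift (S ≫ u).left (𝟙 _) (by rw [hcond _ hvN]; erw [Category.id_comp])
  have hSres : Spec.map (CommRingCat.ofHom (IsLocalRing.residue W)) ≫ S.left =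
      Spec.map (CommRingCat.ofHom (IsLocalRing.residue W)) := by
    show Spec.map _ ≫ Spec.map _ = Spec.map _
    rw [← Spec.map_comp, ← CommRingCat.ofHom_comp]
    congr 2
    ext z
    rw [RingHom.comp_apply, ← sub_eq_zero, ← map_sub, IsLocalRing.residue_eq_zero_iff,
      ValuationSubring.valuation_lt_one_iff]
    exact (hσ z z.2).2
  have hab : a = b := by
    refine Groth.Agent.Lib.EtaleTors.Basic.section_eq_of_residue
      (pullback.snd p.left ((1 : WR ⟶ B).left ≫ 𝟙 B.left)) a b (pullback.lift_snd _ _ _)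
      (pullback.lift_snd _ _ _) ?_
    apply pullback.hom_ext
    · simp only [a, b, Category.assoc]
      erw [pullback.lift_fst, pullback.lift_fst]
      rw [Over.comp_left, ← Category.assoc]
      erw [hSres]
    · simp only [a, b, Category.assoc]
      erw [pullback.lift_snd, pullback.lift_snd]
  have huv : (S ≫ u).left = u.left := by
    have := congrArg (fun z => z ≫ pullback.fst _ _) hab
    simp only [a, b] at this
    erw [pullback.lift_fst, pullback.lift_fst] at this
    exact this.symm
  ext
  apply pullback.hom_ext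
  · show (Spec.map (CommRingCat.ofHom (σ : Ω →+* Ω)) ≫ x.left) ≫ pullback.fst B.hom j = x.left ≫ pullback.fst B.hom j
    erw [Category.assoc, ← hul]
    conv_rhs => rw [← huv, Over.comp_left]
    rw [← Category.assoc, ← Category.assoc]
    congr 1
    show Spec.map _ ≫ Spec.map _ = Spec.map _ ≫ Spec.map _
    rw [← Spec.map_comp, ← Spec.map_comp, ← CommRingCat.ofHom_comp, ← CommRingCat.ofHom_comp]
    rfl
  · exact (Over.w (SGA7.galAct σ x)).trans (Over.w x).symm


variable [HenselianLocalRing R] [IsSepClosure K Ω]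

theorem eq_of_liesOver [Algebra R Ω] [IsScalarTower R K Ω] {W V : ValuationSubring Ω}
    (hW : SGA7.LiesOver K R W) (hV : SGA7.LiesOver K R V) : V = W := by
  ext x
  rw [mem_iff_isIntegral hW, mem_iff_isIntegral hV]

/-- A specialisation into the closed fibre gives an extension to `W`. -/
theorem extends_of_specializes [Algebra R Ω] [IsScalarTower R K Ω] (W : ValuationSubring Ω)
    (hW : SGA7.LiesOver K R W) {N : Over (Spec (CommRingCat.of R))}
    (x : SGA7.Pts Ω ((SGA7.genFib R K).obj N)) (z : N.left)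
    (hz : z ∈ SGA7.specialFibreSet R N)
    (hsp : (x.left ≫ pullback.fst N.hom (Spec.map (CommRingCat.ofHom (algebraMap R K)))).base
      (IsLocalRing.closedPoint Ω) ⤳ z) :
    ∃ u : Spec (CommRingCat.of W) ⟶ N.left, Spec.map (CommRingCat.ofHom (algebraMap W Ω)) ≫ u =
      x.left ≫ pullback.fst N.hom (Spec.map (CommRingCat.ofHom (algebraMap R K))) := by
  set x0 := x.left ≫ pullback.fst N.hom (Spec.map (CommRingCat.ofHom (algebraMap R K))) with hx0
  let φ := N.left.descResidueField (Scheme.stalkClosedPointTo x0)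
  let ψ := N.left.presheaf.stalkSpecializes hsp ≫ N.left.residue _ ≫ φ
  have hψ : Spec.map ψ ≫ N.left.fromSpecStalk z = x0 := by
    simp only [ψ, Spec.map_comp, Category.assoc, Scheme.SpecMap_stalkSpecializes_fromSpecStalk]
    exact Scheme.descResidueField_stalkClosedPointTo_fromSpecResidueField Ω N.left x0
  obtain ⟨V, hV, hloc⟩ := IsLocalRing.exists_factor_valuationRing ψ.hom
  let ψV : N.left.presheaf.stalk z →+* V := ψ.hom.codRestrict V.toSubring hV
  haveI : IsLocalHom ψV := hloc
  let u : Spec (CommRingCat.of V) ⟶ N.left := Spec.map (CommRingCat.ofHom ψV) ≫ N.left.fromSpecStalk z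
  have hu : Spec.map (CommRingCat.ofHom (algebraMap V Ω)) ≫ u = x0 := by
    rw [← hψ, ← Category.assoc, ← Spec.map_comp]
    rfl
  obtain ⟨χ, hχ⟩ : ∃ χ, Spec.map χ = u ≫ N.hom := ⟨_, Spec.map_preimage _⟩
  have hχΩ : ∀ r, algebraMap K Ω (algebraMap R K r) = ((χ.hom r : V) : Ω) := by
    intro r
    have h1 : Spec.map (χ ≫ CommRingCat.ofHom (algebraMap V Ω)) =
        Spec.map (CommRingCat.ofHom ((algebraMap K Ω).comp (algebraMap R K))) := by
      rw [Spec.map_comp, hχ, ← Category.assoc, hu, hx0, Category.assoc, pullback.condition,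
        ← Category.assoc]
      erw [Over.w x]
      show Spec.map _ ≫ Spec.map _ = _
      rw [← Spec.map_comp]
      rfl
    exact (congrArg (fun q : CommRingCat.of R ⟶ CommRingCat.of Ω => q r) (Spec.map_injective h1)).symm
  have hclosed : (Spec.map χ).base (IsLocalRing.closedPoint V) = IsLocalRing.closedPoint R := by
    rw [hχ, Scheme.Hom.comp_apply]
    have : u (IsLocalRing.closedPoint V) = z := by
      simp only [u, Scheme.Hom.comp_apply]
      haveI : IsLocalHom (CommRingCat.ofHom ψV).hom := hloc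
      erw [Spec_closedPoint (f := CommRingCat.ofHom ψV)]
      exact Scheme.fromSpecStalk_closedPoint
    rw [this]
    exact hz
  have hχloc : IsLocalHom χ.hom :=
    ((IsLocalRing.local_hom_TFAE χ.hom).out 0 4).2 (congrArg PrimeSpectrum.asIdeal hclosed)
  have hVover : SGA7.LiesOver K R V := by
    refine ⟨fun r => hχΩ r ▸ (χ.hom r).2, fun r hr => ?_⟩
    rw [hχΩ r, ← ValuationSubring.valuation_lt_one_iff]
    exact fun hh => hr (isUnit_of_map_unit χ.hom r hh)
  obtain rfl := eq_of_liesOver hW hVover
  exact ⟨u, hu⟩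

theorem exists_etale_stage [Algebra R Ω] [IsScalarTower R K Ω] (W : ValuationSubring Ω)
    (hW : SGA7.LiesOver K R W) (p : Polynomial R) (θ : Ω) (hθ : IsIntegral R θ)
    (hp : Polynomial.aeval θ p = 0)
    (hfix : ∀ σ : Ω ≃ₐ[K] Ω, SGA7.IsInertia W σ → σ θ = θ) :
    ∃ (C : Type u) (_ : CommRing C) (_ : Algebra R C) (t : C) (f : C →+* W),
      Algebra.Etale R C ∧ Polynomial.aeval t p = 0 ∧ f.comp (algebraMap R C) = gW W hW ∧
        ((f t : W) : Ω) = θ := by
  classical
  haveI : IsGalois K Ω := IsSepClosure.isGalois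
  let g : integralClosure R Ω →+* W :=
    (integralClosure R Ω).val.toRingHom.codRestrict W.toSubring fun b => mem_of_isIntegral hW b.2
  let q := (IsLocalRing.maximalIdeal W).comap g
  haveI : q.IsPrime := Ideal.IsPrime.comap g
  let I : Subgroup (Ω ≃ₐ[K] Ω) := inertia hW
  have hI : ∀ σ : Ω ≃ₐ[K] Ω, σ ∈ I ↔ ∀ b : integralClosure R Ω, ∃ c ∈ q, (c : Ω) = σ b - b := by
    intro σ
    constructor
    · intro hσ b
      have hb := hσ (b : Ω) (mem_of_isIntegral hW b.2)
      refine ⟨⟨σ b - b, ((mem_iff_isIntegral hW _).1 hb.1).sub b.2⟩, ?_, rfl⟩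
      exact (ValuationSubring.valuation_lt_one_iff W _).2 hb.2
    · intro h y hy
      obtain ⟨c, hc, hcb⟩ := h ⟨y, (mem_iff_isIntegral hW y).1 hy⟩
      refine ⟨apply_mem hW σ hy, ?_⟩
      have := (ValuationSubring.valuation_lt_one_iff W _).1 hc
      rw [← hcb]
      exact this
  obtain ⟨J, _, _, D, c, hc, het, ⟨iso⟩⟩ := Groth.Agent.S9494.result R K Ω q I hI
  let B := integralClosure R Ω ⊓ (IntermediateField.fixedField I).toSubalgebra.restrictScalars R
  let incl : B →ₐ[R] integralClosure R Ω := Subalgebra.inclusion inf_le_left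
  let qB := q.comap incl
  let gB : B →+* W := g.comp incl.toRingHom
  have hunit : ∀ s : qB.primeCompl, IsUnit (gB s) := by
    intro s
    by_contra hs
    exact s.2 hs
  let gL : Localization.AtPrime qB →+* W := IsLocalization.lift hunit
  let θB : B := ⟨θ, hθ, fun σ => hfix σ σ.2⟩
  let hc' := isColimitOfPreserves (Under.forget (CommRingCat.of R) ⋙ forget CommRingCat) hc
  obtain ⟨i, t, ht⟩ := Types.jointly_surjective_of_isColimit hc'
    (iso.inv.right.hom (algebraMap B (Localization.AtPrime qB) θB))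
  letI : Algebra R (D.obj i).right := (D.obj i).hom.hom.toAlgebra
  let e := (c.ι.app i ≫ iso.hom).right.hom
  have het' : e t = algebraMap B (Localization.AtPrime qB) θB := by
    show iso.hom.right ((c.ι.app i).right t) = _
    erw [ht]
    exact congrArg (fun k : Under.mk (CommRingCat.ofHom (algebraMap R (Localization.AtPrime qB))) ⟶ _ =>
      k.right (algebraMap B (Localization.AtPrime qB) θB)) iso.inv_hom_id
  have hev : ∀ (k : J) (f : i ⟶ k), (D.map f).right.hom.comp (D.obj i).hom.hom = (D.obj k).hom.hom := by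
    intro k f
    exact congrArg CommRingCat.Hom.hom (Under.w (D.map f))
  have hzero : e (Polynomial.eval₂ (D.obj i).hom.hom t p) = 0 := by
    rw [Polynomial.hom_eval₂, het']
    have hcomp : e.comp (D.obj i).hom.hom = algebraMap R (Localization.AtPrime qB) :=
      congrArg CommRingCat.Hom.hom (Under.w (c.ι.app i ≫ iso.hom))
    rw [hcomp]
    show Polynomial.aeval (algebraMap B (Localization.AtPrime qB) θB) p = 0
    have h0 : Polynomial.aeval θB p = 0 :=
      Subtype.ext ((Polynomial.aeval_algHom_apply B.val θB p).symm.trans hp)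
    exact (Polynomial.aeval_algHom_apply (IsScalarTower.toAlgHom R B (Localization.AtPrime qB)) θB p).trans
      (by rw [h0, map_zero])
  have hzero' : (c.ι.app i).right (Polynomial.eval₂ (D.obj i).hom.hom t p) =
      (c.ι.app i).right (0 : (D.obj i).right) := by
    have hinj : Function.Injective iso.hom.right :=
      ((Under.forget (CommRingCat.of R)).mapIso iso).commRingCatIsoToRingEquiv.injective
    apply hinj
    rw [map_zero, map_zero]
    exact hzero
  obtain ⟨k, f, f', hff⟩ := (Types.FilteredColimit.isColimit_eq_iff _ hc').1 hzero'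
  letI : Algebra R (D.obj k).right := (D.obj k).hom.hom.toAlgebra
  refine ⟨(D.obj k).right, inferInstance, inferInstance, (D.map f).right t,
    gL.comp (c.ι.app k ≫ iso.hom).right.hom, het k, ?_, ?_, ?_⟩
  · show Polynomial.eval₂ (D.obj k).hom.hom ((D.map f).right t) p = 0
    rw [← hev k f, ← Polynomial.hom_eval₂]
    exact hff.trans (map_zero (D.map f').right.hom)
  · ext r
    show ((gL ((c.ι.app k ≫ iso.hom).right ((D.obj k).hom r)) : W) : Ω) = _
    have := congrArg (fun m : CommRingCat.of R ⟶ CommRingCat.of (Localization.AtPrime qB) => m r) (Under.w (c.ι.app k ≫ iso.hom))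
    erw [this]
    show ((gL (algebraMap R (Localization.AtPrime qB) r) : W) : Ω) = _
    rw [IsScalarTower.algebraMap_apply R B (Localization.AtPrime qB)]
    erw [IsLocalization.lift_eq hunit]
    simp [gB, g, incl, gW, IsScalarTower.algebraMap_apply R K Ω]
  · show ((gL ((c.ι.app k ≫ iso.hom).right ((D.map f).right t)) : W) : Ω) = θ
    have : (c.ι.app k ≫ iso.hom).right ((D.map f).right t) = e t := by
      show iso.hom.right ((c.ι.app k).right ((D.map f).right t)) = iso.hom.right ((c.ι.app i).right t)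
      congr 1
      exact congrArg (fun m => m.right t) (c.w f)
    erw [this, het', IsLocalization.lift_eq hunit]
    rfl

theorem exists_lift_of_primitive {F L T E : Type*} [Field F] [Field L] [Algebra F L] [CommRing T]
    [Algebra F T] [CommRing E] [Algebra F E] (θ : L) (hint : IsIntegral F θ)
    (hθ : IntermediateField.adjoin F {θ} = ⊤) (y : T) (hy : Polynomial.aeval y (minpoly F θ) = 0) :
    ∃ ℓ : L →ₐ[F] T, ℓ θ = y ∧ ∀ a b : L →ₐ[F] E, a θ = b θ → a = b := by
  let PB : PowerBasis F L := (IntermediateField.adjoin.powerBasis hint).map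
    ((IntermediateField.equivOfEq hθ).trans IntermediateField.topEquiv)
  have hgen : PB.gen = θ := rfl
  exact ⟨PB.lift y (by rw [hgen]; exact hy), PB.lift_gen _ _, fun a b h => PB.algHom_ext h⟩

/-- The Néron property turns a point of an étale stage into a point on `W`. -/
theorem glue [Algebra R Ω] [IsScalarTower R K Ω] (W : ValuationSubring Ω) (hW : SGA7.LiesOver K R W)
    {N : Over (Spec (CommRingCat.of R))} (hN : SGA7.IsNeron R K N)
    (x : SGA7.Pts Ω ((SGA7.genFib R K).obj N))
    {A : CommRingCat.{u}} (v : Spec A ⟶ N.left) (ρ : R →+* A)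
    (hρ : Spec.map (CommRingCat.ofHom ρ) = v ≫ N.hom) (φ : A ⟶ CommRingCat.of Ω)
    (hxV : Spec.map φ ≫ v = x.left ≫ pullback.fst N.hom (Spec.map (CommRingCat.ofHom (algebraMap R K))))
    {C : Type u} [CommRing C] [Algebra R C] [Algebra.Etale R C] (fC : C →+* W)
    (hfC : fC.comp (algebraMap R C) = gW W hW) (fΩ : C →ₐ[R] Ω) (hfΩ : ∀ c, fΩ c = (fC c : Ω))
    (χ : A →+* TensorProduct R C K) (hχR : χ.comp ρ = algebraMap R (TensorProduct R C K))
    (hpmχ : (Algebra.TensorProduct.productMap fΩ (IsScalarTower.toAlgHom R K Ω)).toRingHom.comp χ = φ.hom) :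
    ∃ u : Spec (CommRingCat.of W) ⟶ N.left, Spec.map (CommRingCat.ofHom (algebraMap W Ω)) ≫ u =
      x.left ≫ pullback.fst N.hom (Spec.map (CommRingCat.ofHom (algebraMap R K))) := by
  let Y : Over (Spec (CommRingCat.of R)) := Over.mk (Spec.map (CommRingCat.ofHom (algebraMap R C)))
  have hY : Smooth Y.hom := by
    show Smooth (Spec.map (CommRingCat.ofHom (algebraMap R C)))
    rw [HasRingHomProperty.Spec_iff (P := @Smooth)]
    exact RingHom.smooth_algebraMap.2 inferInstance
  let j := Spec.map (CommRingCat.ofHom (algebraMap R K))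
  let π := pullbackSpecIso R C K
  let h : (SGA7.genFib R K).obj Y ⟶ (SGA7.genFib R K).obj N := Over.homMk
    (pullback.lift (π.hom ≫ Spec.map (CommRingCat.ofHom χ) ≫ v) (pullback.snd _ _) (by
      rw [Category.assoc, Category.assoc, ← hρ, ← Spec.map_comp, ← CommRingCat.ofHom_comp]
      erw [hχR]
      rw [← cancel_epi π.inv, Iso.inv_hom_id_assoc]
      erw [pullbackSpecIso_inv_snd_assoc]
      rw [← Spec.map_comp]
      congr 1
      ext r
      exact ((Algebra.TensorProduct.includeRight : K →ₐ[R] TensorProduct R C K).commutes r).symm))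
    (pullback.lift_snd _ _ _)
  obtain ⟨g, hg⟩ := (hN.2.2.2 Y hY).2 h
  refine ⟨Spec.map (CommRingCat.ofHom fC) ≫ g.left, ?_⟩
  let e0 : Spec (CommRingCat.of Ω) ⟶ pullback Y.hom j :=
    pullback.lift (Spec.map (CommRingCat.ofHom ((algebraMap W Ω).comp fC)))
      (Spec.map (CommRingCat.ofHom (algebraMap K Ω))) (by
        show Spec.map _ ≫ Spec.map _ = Spec.map _ ≫ Spec.map _
        rw [← Spec.map_comp, ← Spec.map_comp, ← CommRingCat.ofHom_comp, ← CommRingCat.ofHom_comp,
          RingHom.comp_assoc, hfC]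
        rfl)
  have h1 : pullback.fst Y.hom j ≫ g.left = π.hom ≫ Spec.map (CommRingCat.ofHom χ) ≫ v := by
    have h2 := congrArg (fun m : (SGA7.genFib R K).obj Y ⟶ (SGA7.genFib R K).obj N =>
      m.left ≫ pullback.fst N.hom j) hg
    simp only [h, j] at h2
    erw [pullback.lift_fst, pullback.lift_fst] at h2
    exact h2
  have he0 : e0 ≫ π.hom = Spec.map (CommRingCat.ofHom
      (Algebra.TensorProduct.productMap fΩ (IsScalarTower.toAlgHom R K Ω)).toRingHom) := by
    rw [← Iso.eq_comp_inv]
    apply pullback.hom_ext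
    · simp only [e0]
      erw [pullback.lift_fst, Category.assoc, pullbackSpecIso_inv_fst]
      rw [← Spec.map_comp]
      congr 1
      ext c
      exact ((Algebra.TensorProduct.productMap_left_apply fΩ (IsScalarTower.toAlgHom R K Ω) c).trans (hfΩ c)).symm
    · simp only [e0]
      erw [pullback.lift_snd, Category.assoc, pullbackSpecIso_inv_snd]
      rw [← Spec.map_comp]
      congr 1
      ext c
      exact (Algebra.TensorProduct.productMap_right_apply fΩ (IsScalarTower.toAlgHom R K Ω) c).symm
  calc Spec.map (CommRingCat.ofHom (algebraMap W Ω)) ≫ Spec.map (CommRingCat.ofHom fC) ≫ g.left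
      = (e0 ≫ pullback.fst Y.hom j) ≫ g.left := by
        rw [← Category.assoc, ← Spec.map_comp]
        congr 1
        exact (pullback.lift_fst _ _ _).symm
    _ = _ := by
        rw [Category.assoc, h1, ← Category.assoc, he0, ← Category.assoc, ← Spec.map_comp, ← hxV]
        congr 2
        exact CommRingCat.hom_ext hpmχ

set_option maxHeartbeats 800000 in
/-- A point fixed by inertia extends, for a Néron model. -/
theorem extends_of_fixed [Algebra R Ω] [IsScalarTower R K Ω] (W : ValuationSubring Ω)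
    (hW : SGA7.LiesOver K R W) {N : Over (Spec (CommRingCat.of R))} (hN : SGA7.IsNeron R K N)
    (x : SGA7.Pts Ω ((SGA7.genFib R K).obj N))
    (hfix : ∀ σ : Ω ≃ₐ[K] Ω, SGA7.IsInertia W σ → SGA7.galAct σ x = x) :
    ∃ u : Spec (CommRingCat.of W) ⟶ N.left, Spec.map (CommRingCat.ofHom (algebraMap W Ω)) ≫ u =
      x.left ≫ pullback.fst N.hom (Spec.map (CommRingCat.ofHom (algebraMap R K))) := by
  classical
  haveI : Algebra.IsSeparable K Ω := IsSepClosure.separable
  haveI := hN.1
  set x0 := x.left ≫ pullback.fst N.hom (Spec.map (CommRingCat.ofHom (algebraMap R K))) with hx0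
  obtain ⟨_, ⟨V, hV, rfl⟩, hξ, -⟩ := N.left.isBasis_affineOpens.exists_subset_of_mem_open
    (Set.mem_univ (x0 (IsLocalRing.closedPoint Ω))) isOpen_univ
  have hrange : Set.range x0 ⊆ (V : Set N.left) := by
    rintro _ ⟨y, rfl⟩
    haveI : Subsingleton (Spec (CommRingCat.of Ω)) := inferInstanceAs (Subsingleton (PrimeSpectrum Ω))
    obtain rfl : y = IsLocalRing.closedPoint Ω := @Subsingleton.elim (Spec (CommRingCat.of Ω)) _ y _
    exact hξ
  let xV := IsOpenImmersion.lift hV.fromSpec x0 (by rwa [hV.range_fromSpec])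
  obtain ⟨φ, hφ⟩ : ∃ φ, Spec.map φ = xV := ⟨_, Spec.map_preimage _⟩
  have hxV : Spec.map φ ≫ hV.fromSpec = x0 := by rw [hφ]; exact IsOpenImmersion.lift_fac _ _ _
  let ρ : R →+* Γ(N.left, V) := (Spec.preimage (hV.fromSpec ≫ N.hom)).hom
  letI : Algebra R Γ(N.left, V) := ρ.toAlgebra
  have hρ : Spec.map (CommRingCat.ofHom (algebraMap R Γ(N.left, V))) = hV.fromSpec ≫ N.hom :=
    Spec.map_preimage _
  haveI : Algebra.FiniteType R Γ(N.left, V) := by
    have h : LocallyOfFiniteType (Spec.map (CommRingCat.ofHom ρ)) := by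
      show LocallyOfFiniteType (Spec.map (CommRingCat.ofHom (algebraMap R Γ(N.left, V))))
      rw [hρ]; infer_instance
    exact (HasRingHomProperty.Spec_iff (P := @LocallyOfFiniteType)).1 h
  have hφR : ∀ r, φ (ρ r) = algebraMap K Ω (algebraMap R K r) := by
    intro r
    have h1 : Spec.map (CommRingCat.ofHom ρ ≫ φ) =
        Spec.map (CommRingCat.ofHom ((algebraMap K Ω).comp (algebraMap R K))) := by
      rw [Spec.map_comp]
      erw [hρ]
      rw [← Category.assoc, hxV, hx0, Category.assoc, pullback.condition, ← Category.assoc]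
      erw [Over.w x]
      show Spec.map _ ≫ Spec.map _ = _
      rw [← Spec.map_comp]
      rfl
    exact congrArg (fun q : CommRingCat.of R ⟶ CommRingCat.of Ω => q r) (Spec.map_injective h1)
  let φa : Γ(N.left, V) →ₐ[R] Ω :=
    { φ.hom with commutes' := fun r => (hφR r).trans (IsScalarTower.algebraMap_apply R K Ω r).symm }
  have hφfix : ∀ σ : Ω ≃ₐ[K] Ω, SGA7.IsInertia W σ → ∀ a, σ (φa a) = φa a := by
    intro σ hσ a
    have h1 := congrArg (fun y : SGA7.Pts Ω ((SGA7.genFib R K).obj N) =>
      y.left ≫ pullback.fst N.hom (Spec.map (CommRingCat.ofHom (algebraMap R K)))) (hfix σ hσ)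
    simp only [SGA7.galAct, Over.comp_left, Category.assoc] at h1
    erw [← hx0, ← hxV, ← Category.assoc] at h1
    rw [cancel_mono] at h1
    erw [← Spec.map_comp] at h1
    exact congrArg (fun q : Γ(N.left, V) ⟶ CommRingCat.of Ω => q a) (Spec.map_injective h1)
  obtain ⟨s, hs⟩ := (inferInstance : Algebra.FiniteType R Γ(N.left, V)).out
  let L := IntermediateField.adjoin K (φa '' (s : Set Γ(N.left, V)))
  haveI : FiniteDimensional K L :=
    IntermediateField.finiteDimensional_adjoin (fun y _ => Algebra.IsIntegral.isIntegral y)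
  have hφL : ∀ a, φa a ∈ L := by
    intro a
    have : (⊤ : Subalgebra R Γ(N.left, V)).map φa ≤ L.toSubalgebra.restrictScalars R := by
      rw [← hs, AlgHom.map_adjoin]
      exact Algebra.adjoin_le (IntermediateField.subset_adjoin K _)
    exact this ⟨a, trivial, rfl⟩
  have hLfix : ∀ σ : Ω ≃ₐ[K] Ω, SGA7.IsInertia W σ → ∀ y ∈ L, σ y = y := by
    intro σ hσ y hy
    have hle : L ≤ IntermediateField.fixedField (Subgroup.zpowers σ) := by
      refine IntermediateField.adjoin_le_iff.2 ?_
      rintro _ ⟨a, -, rfl⟩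
      rw [SetLike.mem_coe, IntermediateField.mem_fixedField_iff]
      intro g hg
      obtain ⟨k, rfl⟩ := Subgroup.mem_zpowers_iff.1 hg
      have hmem : σ ^ k ∈ inertia hW := (inertia hW).zpow_mem hσ k
      exact hφfix _ hmem a
    exact (IntermediateField.mem_fixedField_iff _ _).1 (hle hy) σ (Subgroup.mem_zpowers σ)
  -- a primitive element, made integral
  obtain ⟨α, hα⟩ := Field.exists_primitive_element K L
  obtain ⟨d, hd, hdint⟩ := exists_integral_multiples R K ({α} : Finset L)
  have hθint : IsIntegral R (d • α) := hdint α (by simp)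
  let θ : L := algebraMap R K d • α
  have hθeq : θ = d • α := algebraMap_smul K d α
  have hθ : IntermediateField.adjoin K {θ} = ⊤ := by
    rw [eq_top_iff, ← hα, IntermediateField.adjoin_simple_le_iff]
    have hd0 : algebraMap R K d ≠ 0 := by simpa using hd
    have : α = (algebraMap R K d)⁻¹ • θ := (inv_smul_smul₀ hd0 α).symm
    rw [this]
    exact IntermediateField.smul_mem _ (IntermediateField.mem_adjoin_simple_self K θ)
  haveI := tower (R := R) L
  have hθR : IsIntegral R θ := hθeq ▸ hθint
  let p := minpoly R θ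
  have hpK : p.map (algebraMap R K) = minpoly K θ :=
    (minpoly.isIntegrallyClosed_eq_field_fractions' K hθR).symm
  obtain ⟨C, _, _, t, fC, hCet, htp, hfC, hftθ⟩ := exists_etale_stage W hW p (θ : Ω)
    (hθR.map (IsScalarTower.toAlgHom R L Ω))
    (by
      have := Polynomial.aeval_algHom_apply (IsScalarTower.toAlgHom R L Ω) θ p
      rw [minpoly.aeval, map_zero] at this
      exact this)
    (fun σ hσ => hLfix σ hσ _ θ.2)
  haveI := hCet
  let T := TensorProduct R C K
  letI : Algebra K T := Algebra.TensorProduct.rightAlgebra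
  have hroot : Polynomial.aeval (t ⊗ₜ[R] (1 : K)) (minpoly K θ) = 0 := by
    rw [← hpK, Polynomial.aeval_map_algebraMap]
    show Polynomial.aeval ((Algebra.TensorProduct.includeLeft : C →ₐ[R] T) t) p = 0
    rw [Polynomial.aeval_algHom_apply, htp, map_zero]
  obtain ⟨ℓT, hℓ, hext⟩ := exists_lift_of_primitive (E := Ω) θ (Algebra.IsIntegral.isIntegral θ) hθ
    (t ⊗ₜ[R] (1 : K)) hroot
  let χ : Γ(N.left, V) →+* T := ℓT.toRingHom.comp (φa.toRingHom.codRestrict L.toSubfield.toSubring hφL)
  have hχR : χ.comp ρ = algebraMap R T := by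
    ext r
    show ℓT ⟨φa (ρ r), hφL _⟩ = _
    have : (⟨φa (ρ r), hφL _⟩ : L) = algebraMap K L (algebraMap R K r) := by
      ext; exact hφR r
    rw [this, AlgHom.commutes]
    rw [← IsScalarTower.algebraMap_apply R K T]
  letI : Algebra R W := (gW W hW).toAlgebra
  let fΩ : C →ₐ[R] Ω :=
    { (algebraMap W Ω).comp fC with
      commutes' := fun r => by
        show ((fC (algebraMap R C r) : W) : Ω) = algebraMap R Ω r
        rw [← RingHom.comp_apply, hfC, IsScalarTower.algebraMap_apply R K Ω]
        rfl }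
  let pm : T →ₐ[R] Ω := Algebra.TensorProduct.productMap fΩ (IsScalarTower.toAlgHom R K Ω)
  let pmK : T →ₐ[K] Ω :=
    { pm.toRingHom with
      commutes' := fun k => by
        exact Algebra.TensorProduct.productMap_right_apply fΩ (IsScalarTower.toAlgHom R K Ω) k }
  have hcomp : ∀ y : L, pmK (ℓT y) = L.val y := fun y => DFunLike.congr_fun (hext (pmK.comp ℓT) L.val (by
    rw [AlgHom.comp_apply, hℓ]
    exact (Algebra.TensorProduct.productMap_left_apply fΩ (IsScalarTower.toAlgHom R K Ω) t).trans hftθ)) y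
  have hpmχ : pm.toRingHom.comp χ = φ.hom := RingHom.ext fun a => hcomp ⟨φa a, hφL a⟩
  exact glue W hW hN x hV.fromSpec ρ hρ φ hxV fC hfC fΩ (fun c => rfl) χ hχR hpmχ

end Groth.Agent.Lib.NeronInertia
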